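import Cfsg.Agent.CosetEnum.Chain
import Cfsg.Agent.CosetEnum.Present

/-!
A finite group acting through a permutation table: elements given by words, stabiliser chains given
by lists of transversal words, and membership of centralisers decided by backtracking.
-/

set_option autoImplicit false

namespace CfsgLib.OnanOut

open CfsgLib.CosetEnum

/-- pass a number on as a literal -/
noncomputable def force {α : Sort*} (n : ℕ) (k : ℕ → α) : α :=
  Nat.rec (motive := fun _ => α) (k 0) (fun m _ => k (m + 1)) n

theorem force_eq {α : Sort*} (n : ℕ) (k : ℕ → α) : force n k = k n := by cases n <;> rfl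

/-- the table walk, evaluated step by step -/
noncomputable def run (T : ℕ → ℕ) (L : ℕ) (w : List ℕ) : ℕ → ℕ :=
  List.rec (motive := fun _ => ℕ → ℕ) (fun i => i)
    (fun x _ go i => force (T (L * i + x)) go) w

theorem run_eq_runT (T : ℕ → ℕ) (L : ℕ) (w : List ℕ) (i : ℕ) : run T L w i = runT T L w i := by
  induction w generalizing i with
  | nil => rfl
  | cons x w ih =>
    show force (T (L * i + x)) (run T L w) = _
    rw [force_eq, ih, runT_cons]

/-- a group realised on the points of a checked table -/
structure Act (G : Type*) [Group G] where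
  D : PermData
  ok : D.OK
  gen : ℕ → G
  pi : G →* Equiv.Perm (Fin D.n)
  inj : Function.Injective pi
  pi_gen : ∀ {x : ℕ}, x < D.L → pi (gen x) = ok.sigma x

variable {G : Type*} [Group G]

namespace Act

variable (A : Act G)

/-- all letters are below the bound -/
def small (w : List ℕ) : Bool := w.all fun x => x.blt A.D.L

theorem small_iff {w : List ℕ} : A.small w = true ↔ ∀ x ∈ w, x < A.D.L := by
  simp [small, Nat.blt]

theorem small_append {v w : List ℕ} (hv : A.small v = true) (hw : A.small w = true) :
    A.small (v ++ w) = true := by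
  rw [small, List.all_append, Bool.and_eq_true]
  exact ⟨hv, hw⟩

theorem small_flatten {L : List (List ℕ)} (h : ∀ w ∈ L, A.small w = true) :
    A.small L.flatten = true := by
  induction L with
  | nil => rfl
  | cons w L ih =>
    rw [List.flatten_cons]
    exact A.small_append (h w List.mem_cons_self) (ih fun v hv => h v (List.mem_cons_of_mem _ hv))

/-- the inverse word -/
def winv (w : List ℕ) : List ℕ := w.reverse.map A.D.iv

theorem small_winv {w : List ℕ} (hw : A.small w = true) : A.small (A.winv w) = true :=
  A.small_iff.2 fun x hx => by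
    obtain ⟨y, hy, rfl⟩ := List.mem_map.1 hx
    exact (A.ok.iv_lt (A.small_iff.1 hw y (List.mem_reverse.1 hy))).1

/-- the element acting as the walk of a word -/
noncomputable def el (w : List ℕ) : G := (gword A.gen w)⁻¹

theorem el_nil : A.el [] = 1 := by rw [el, gword_nil, inv_one]

theorem el_append (v w : List ℕ) : A.el (v ++ w) = A.el w * A.el v := by
  simp [el, gword, List.map_append, List.prod_append]

theorem el_single (x : ℕ) : A.el [x] = (A.gen x)⁻¹ := by rw [el, gword_cons, gword_nil, mul_one]

theorem pi_gword {w : List ℕ} (hw : A.small w = true) :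
    A.pi (gword A.gen w) = gword A.ok.sigma w := by
  rw [gword_map]
  exact gword_congr _ _ fun x hx => A.pi_gen (A.small_iff.1 hw x hx)

theorem pi_el {w : List ℕ} (hw : A.small w = true) (i : Fin A.D.n) :
    ((A.pi (A.el w) i : Fin A.D.n) : ℕ) = run A.D.T A.D.L w i := by
  rw [el, map_inv, A.pi_gword hw, A.ok.gword_inv_apply w (A.small_iff.1 hw), run_eq_runT]

theorem gen_iv {x : ℕ} (hx : x < A.D.L) : A.gen (A.D.iv x) = (A.gen x)⁻¹ :=
  A.inj (by rw [A.pi_gen (A.ok.iv_lt hx).1, A.ok.sigma_iv hx, map_inv, A.pi_gen hx])

theorem el_winv {w : List ℕ} (hw : A.small w = true) : A.el (A.winv w) = (A.el w)⁻¹ := by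
  induction w with
  | nil => simp [winv, el_nil]
  | cons x w ih =>
    have h : A.small [x] = true ∧ A.small w = true := by
      rw [show x :: w = [x] ++ w from rfl, small, List.all_append, Bool.and_eq_true] at hw
      exact hw
    have e : A.winv (x :: w) = A.winv w ++ [A.D.iv x] := by simp [winv]
    rw [e, A.el_append, ih h.2, A.el_single, A.gen_iv (A.small_iff.1 h.1 x List.mem_cons_self),
      show x :: w = [x] ++ w from rfl, A.el_append, A.el_single, mul_inv_rev]

end Act

/-- A chain level: a base point and transversal words with the points they reach. -/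
structure Level where
  base : ℕ
  tr : List (ℕ × List ℕ)

/-- the points reached are strictly increasing -/
noncomputable def increasing : List (ℕ × List ℕ) → Bool :=
  List.rec (motive := fun _ => Bool) true (fun a rest ih =>
    (match rest with
      | [] => true
      | b :: _ => a.1.blt b.1) && ih)

theorem increasing_pairwise : ∀ {l : List (ℕ × List ℕ)}, increasing l = true →
    (l.map Prod.fst).Pairwise (· < ·)
  | [], _ => List.Pairwise.nil
  | [a], _ => List.pairwise_singleton _ _
  | a :: b :: l, h => by
    have h' : a.1.blt b.1 = true ∧ increasing (b :: l) = true := by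
      simpa [increasing, Bool.and_eq_true] using h
    have hab : a.1 < b.1 := by simpa [Nat.blt] using h'.1
    have ih := increasing_pairwise h'.2
    rw [List.map_cons, List.pairwise_cons]
    refine ⟨fun z hz => ?_, ih⟩
    rw [List.map_cons, List.pairwise_cons] at ih
    rcases List.mem_cons.1 hz with rfl | hz
    · exact hab
    · exact hab.trans (ih.1 z hz)

namespace Act

variable (A : Act G)

/-- one transversal entry works: it fixes the earlier base points and moves this one as listed -/
noncomputable def entryOK (pre : List ℕ) (b : ℕ) (e : ℕ × List ℕ) : Bool :=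
  A.small e.2 && Nat.beq (run A.D.T A.D.L e.2 b) e.1 &&
    pre.all (fun p => Nat.beq (run A.D.T A.D.L e.2 p) p)

/-- every level works, given the earlier base points -/
def chainOK (pre : List ℕ) : List Level → Prop
  | [] => True
  | V :: rest => V.base < A.D.n ∧ V.tr.all (A.entryOK pre V.base) = true ∧
      increasing V.tr = true ∧ chainOK (V.base :: pre) rest

/-- the elements fixing the points numbered in `pre` -/
noncomputable def fixing (pre : List ℕ) : Subgroup G where
  carrier := {g | ∀ i : Fin A.D.n, (i : ℕ) ∈ pre → A.pi g i = i}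
  one_mem' := by intro i _; simp
  mul_mem' := by
    intro a b ha hb i hi
    rw [map_mul, Equiv.Perm.mul_apply, hb i hi, ha i hi]
  inv_mem' := by
    intro a ha i hi
    rw [map_inv, Equiv.Perm.inv_eq_iff_eq, ha i hi]

/-- the product of the numbers of transversal entries -/
def size : List Level → ℕ
  | [] => 1
  | V :: rest => V.tr.length * size rest

variable [Finite G]

/-- the points that elements fixing `pre` send `b` to -/
noncomputable def orb (pre : List ℕ) (b : Fin A.D.n) : Set (Fin A.D.n) :=
  (fun g => A.pi g b) '' (A.fixing pre : Set G)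

theorem card_step (pre : List ℕ) (b : Fin A.D.n) :
    (A.orb pre b).ncard * Nat.card (A.fixing ((b : ℕ) :: pre)) = Nat.card (A.fixing pre) := by
  letI : MulAction (A.fixing pre) (Fin A.D.n) :=
    MulAction.compHom _ (A.pi.comp (A.fixing pre).subtype)
  have ho : A.orb pre b = MulAction.orbit (A.fixing pre) b := by
    ext i
    constructor
    · rintro ⟨g, hg, rfl⟩; exact ⟨⟨g, hg⟩, rfl⟩
    · rintro ⟨⟨g, hg⟩, rfl⟩; exact ⟨g, hg, rfl⟩
  have hle : A.fixing ((b : ℕ) :: pre) ≤ A.fixing pre := fun g hg i hi =>
    hg i (List.mem_cons_of_mem _ hi)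
  have hs : MulAction.stabilizer (A.fixing pre) b =
      (A.fixing ((b : ℕ) :: pre)).subgroupOf (A.fixing pre) := by
    ext ⟨g, hg⟩
    rw [MulAction.mem_stabilizer_iff, Subgroup.mem_subgroupOf]
    constructor
    · intro h i hi
      rcases List.mem_cons.1 hi with h1 | h1
      · rw [show i = b from Fin.ext h1]; exact h
      · exact hg i h1
    · intro h; exact h b List.mem_cons_self
  rw [ho, ← Nat.card_congr (Subgroup.subgroupOfEquivOfLe hle).toEquiv, ← hs,
    ← Nat.card_coe_set_eq, ← Nat.card_prod]
  exact Nat.card_congr (MulAction.orbitProdStabilizerEquivGroup (A.fixing pre) b)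

/-- the listed points as points of the table -/
def pts (V : Level) : Set (Fin A.D.n) := {i | (i : ℕ) ∈ V.tr.map Prod.fst}

theorem pts_sub {pre : List ℕ} {V : Level} (hb : V.base < A.D.n)
    (he : V.tr.all (A.entryOK pre V.base) = true) :
    A.pts V ⊆ A.orb pre ⟨V.base, hb⟩ ∧ ∀ q ∈ V.tr.map Prod.fst, q < A.D.n := by
  have key : ∀ e ∈ V.tr, A.el e.2 ∈ A.fixing pre ∧
      ((A.pi (A.el e.2) ⟨V.base, hb⟩ : Fin A.D.n) : ℕ) = e.1 := by
    intro e hm
    have h := List.all_eq_true.1 he e hm
    simp only [entryOK, Bool.and_eq_true, List.all_eq_true, Nat.beq_eq] at h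
    refine ⟨fun i hi => Fin.ext ?_, ?_⟩
    · rw [A.pi_el h.1.1]; exact h.2 i hi
    · rw [A.pi_el h.1.1]; exact h.1.2
  constructor
  · intro i hi
    obtain ⟨e, hm, e1⟩ := List.mem_map.1 hi
    exact ⟨A.el e.2, (key e hm).1, Fin.ext ((key e hm).2.trans e1)⟩
  · intro q hq
    obtain ⟨e, hm, rfl⟩ := List.mem_map.1 hq
    rw [← (key e hm).2]; exact Fin.isLt _

theorem ncard_pts {pre : List ℕ} {V : Level} (hb : V.base < A.D.n)
    (he : V.tr.all (A.entryOK pre V.base) = true) (hi : increasing V.tr = true) :
    (A.pts V).ncard = V.tr.length := by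
  have hlt := (A.pts_sub hb he).2
  have hnd : (V.tr.map Prod.fst).Nodup := (increasing_pairwise hi).imp fun h => Nat.ne_of_lt h
  have himg : Fin.val '' A.pts V = ((V.tr.map Prod.fst).toFinset : Set ℕ) := by
    ext q
    simp only [Set.mem_image, List.coe_toFinset, Set.mem_ofPred_eq]
    exact ⟨fun ⟨i, hi, e⟩ => e ▸ hi, fun hq => ⟨⟨q, hlt q hq⟩, hq, rfl⟩⟩
  rw [← Set.ncard_image_of_injective _ Fin.val_injective, himg, Set.ncard_coe_finset,
    List.toFinset_card_of_nodup hnd, List.length_map]

theorem size_le : ∀ (L : List Level) (pre : List ℕ), A.chainOK pre L →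
    size L ≤ Nat.card (A.fixing pre)
  | [], _, _ => Nat.card_pos
  | V :: rest, pre, ⟨hb, he, hi, hr⟩ => by
    rw [← A.card_step pre ⟨V.base, hb⟩]
    refine Nat.mul_le_mul ?_ (size_le rest _ hr)
    rw [← A.ncard_pts hb he hi]
    exact Set.ncard_le_ncard (A.pts_sub hb he).1 (Set.toFinite _)

/-- the orbits are exactly the listed ones and the last fixing subgroup is trivial -/
def exact (pre : List ℕ) : List Level → Prop
  | [] => A.fixing pre = ⊥
  | V :: rest => (∀ hb : V.base < A.D.n, A.orb pre ⟨V.base, hb⟩ = A.pts V) ∧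
      exact (V.base :: pre) rest

theorem exact_of_card : ∀ (L : List Level) (pre : List ℕ), A.chainOK pre L →
    Nat.card (A.fixing pre) = size L → 0 < size L → A.exact pre L
  | [], _, _, h, _ => Subgroup.card_eq_one.1 h
  | V :: rest, pre, ⟨hb, he, hi, hr⟩, h, hp => by
    have h1 := A.card_step pre ⟨V.base, hb⟩
    rw [h] at h1
    have h2 := Set.ncard_le_ncard (A.pts_sub hb he).1 (Set.toFinite _)
    rw [A.ncard_pts hb he hi] at h2
    have h3 := A.size_le rest _ hr
    have hs : 0 < V.tr.length ∧ 0 < size rest := by
      simp only [size, Nat.mul_pos_iff_of_pos_left] at hp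
      constructor
      · exact Nat.pos_of_ne_zero fun e => by simp [e] at hp
      · exact Nat.pos_of_ne_zero fun e => by simp [e] at hp
    have hc : Nat.card (A.fixing (V.base :: pre)) = size rest := by
      by_contra hne
      have hlt : V.tr.length * size rest <
          (A.orb pre ⟨V.base, hb⟩).ncard * Nat.card (A.fixing (V.base :: pre)) :=
        lt_of_lt_of_le (Nat.mul_lt_mul_of_pos_left (lt_of_le_of_ne h3 (Ne.symm hne)) hs.1)
          (Nat.mul_le_mul_right _ h2)
      simp only [size] at h1
      omega
    refine ⟨fun _ => ?_, exact_of_card rest _ hr hc hs.2⟩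
    refine (Set.eq_of_subset_of_ncard_le (A.pts_sub hb he).1 ?_ (Set.toFinite _)).symm
    rw [A.ncard_pts hb he hi]
    simp only [size] at h1
    rw [hc] at h1
    exact le_of_eq (Nat.eq_of_mul_eq_mul_right hs.2 h1)

omit [Finite G] in
theorem fixing_nil : A.fixing [] = ⊤ := eq_top_iff.2 fun g _ i hi => absurd hi List.not_mem_nil

/-- agreement on base points -/
noncomputable def eqOn (bs : List ℕ) (v w : List ℕ) : Bool :=
  bs.all fun b => Nat.beq (run A.D.T A.D.L v b) (run A.D.T A.D.L w b)

theorem eqOn_iff {bs : List ℕ} (hbot : A.fixing bs = ⊥) (hbs : ∀ b ∈ bs, b < A.D.n) {v w : List ℕ}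
    (hv : A.small v = true) (hw : A.small w = true) : A.eqOn bs v w = true ↔ A.el v = A.el w := by
  simp only [eqOn, List.all_eq_true, Nat.beq_eq]
  constructor
  · intro h
    have hm : (A.el w)⁻¹ * A.el v ∈ A.fixing bs := fun i hi => by
      rw [map_mul, map_inv, Equiv.Perm.mul_apply, Equiv.Perm.inv_eq_iff_eq]
      exact Fin.ext (by rw [A.pi_el hv, A.pi_el hw]; exact h i hi)
    rw [hbot, Subgroup.mem_bot] at hm
    exact (inv_mul_eq_one.1 hm).symm
  · intro h b hb
    have e1 := A.pi_el hv ⟨b, hbs b hb⟩
    rw [h, A.pi_el hw] at e1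
    exact e1.symm

end Act

end CfsgLib.OnanOut
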