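import Cfsg.Prelude.Def_KGroupFacts
import Cfsg.Agent.Eq.Def_KGroupFacts
import Mathlib.GroupTheory.Sylow

/-!
A simple group with a self-centralising element `y` of order 19 and an element `k` of order six
acting on it, in which the images of a third element are confined to the centraliser of `k`:
the outer automorphism group has order two as soon as only two images occur.
-/

set_option autoImplicit false

namespace CfsgLib.OnanOut

variable {G : Type*} [Group G]

/-- `k` raised to `i` sends `y` to its `12 ^ i`-th power -/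
theorem pow_conj_eq {y k : G} (hk : k * y * k⁻¹ = y ^ 12) (i m : ℕ) :
    k ^ i * y ^ m * (k ^ i)⁻¹ = y ^ (12 ^ i * m) := by
  induction i generalizing m with
  | zero => simp
  | succ i ih =>
    have h1 : k * y ^ m * k⁻¹ = y ^ (12 * m) := by rw [← conj_pow, hk, pow_mul]
    calc k ^ (i + 1) * y ^ m * (k ^ (i + 1))⁻¹
        = k ^ i * (k * y ^ m * k⁻¹) * (k ^ i)⁻¹ := by rw [pow_succ]; group
      _ = y ^ (12 ^ (i + 1) * m) := by rw [h1, ih, pow_succ, mul_assoc]

/-- the residues met by `r0 * 12 ^ i` -/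
theorem residues {r : ℕ} (h1 : 1 ≤ r) (h2 : r < 19) :
    ∃ r0 ∈ [1, 2, 4], ∃ i < 6, 12 ^ i * r0 % 19 = r := by
  interval_cases r <;> decide

theorem pow_congr {y : G} (hy : y ^ 19 = 1) {a b : ℕ} (h : a % 19 = b % 19) : y ^ a = y ^ b := by
  rw [← Nat.mod_add_div a 19, ← Nat.mod_add_div b 19, h, pow_add, pow_add, pow_mul, pow_mul, hy,
    one_pow, one_pow]

/-- The outer automorphism group has order two. -/
theorem card_out_eq_two [Finite G] [IsSimpleGroup G] {y k z z' : G}
    (hy : orderOf y = 19) (hfac : (Nat.card G).factorization 19 = 1)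
    (hk : k * y * k⁻¹ = y ^ 12)
    (hCy : ∀ x, Commute x y → ∃ j : ℕ, x = y ^ j)
    (hz : Commute z k)
    (hgen : ∀ φ ψ : G →* G, φ y = ψ y → φ k = ψ k → φ z = ψ z → φ = ψ)
    (hbad : ∀ (φ : G →* G) (r0 : ℕ), r0 ∈ [1, 2, 4] → φ y = y ^ r0 → φ k = k →
      Commute (φ z) k → r0 = 1 ∧ (φ z = z ∨ φ z = z'))
    (σ : G →* G) (hσy : σ y = y) (hσk : σ k = k) (hσz : σ z = z') (hne : z ≠ z') :
    Nat.card (Cfsg.Out G) = 2 := by
  haveI : Fact (Nat.Prime 19) := ⟨by decide⟩
  have y19 : y ^ 19 = 1 := hy ▸ pow_orderOf_eq_one y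
  have yne : y ≠ 1 := fun h => by rw [h, orderOf_one] at hy; omega
  have kinv : k⁻¹ * y * k = y ^ 8 := by
    have h0 : k * y ^ 8 * k⁻¹ = y := by
      rw [← conj_pow, hk, ← pow_mul]
      exact (pow_congr y19 (b := 1) (by norm_num)).trans (pow_one y)
    calc k⁻¹ * y * k = k⁻¹ * (k * y ^ 8 * k⁻¹) * k := by rw [h0]
      _ = y ^ 8 := by group
  have hinj : Function.Injective σ := by
    refine (MonoidHom.ker_eq_bot_iff _).1 ?_
    refine (MonoidHom.normal_ker σ).eq_bot_or_eq_top.resolve_right fun ht => yne ?_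
    rw [← hσy]
    exact MonoidHom.mem_ker.1 (ht ▸ Subgroup.mem_top y)
  let sig : MulAut G := MulEquiv.ofBijective σ (Finite.injective_iff_bijective.1 hinj)
  have hsig : ∀ g, sig g = σ g := fun g => rfl
  have fixed : ∀ (a : MulAut G) (r0 : ℕ), r0 ∈ [1, 2, 4] → a y = y ^ r0 → a k = k →
      a = 1 ∨ a = sig := by
    intro a r0 hr hay hak
    have hcm : Commute (a z) k := by
      have := hz.map a.toMonoidHom
      change Commute (a z) (a k) at this
      rwa [hak] at this
    obtain ⟨h1, hzz⟩ := hbad a.toMonoidHom r0 hr hay hak hcm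
    rw [h1, pow_one] at hay
    rcases hzz with h | h
    · left
      exact MulEquiv.toMonoidHom_injective (hgen a.toMonoidHom (1 : MulAut G).toMonoidHom hay hak h)
    · right
      exact MulEquiv.toMonoidHom_injective
        (hgen a.toMonoidHom sig.toMonoidHom (hay.trans hσy.symm) (hak.trans hσk.symm)
          (h.trans hσz.symm))
  have exists_conj : ∀ a : MulAut G, ∃ g, MulAut.conj g * a = 1 ∨ MulAut.conj g * a = sig := by
    intro a
    let P : Sylow 19 G := Sylow.ofCard (Subgroup.zpowers y)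
      (by rw [Nat.card_zpowers, hy, hfac, pow_one])
    let Q : Sylow 19 G := Sylow.ofCard (Subgroup.zpowers (a y))
      (by rw [Nat.card_zpowers, a.orderOf_eq, hy, hfac, pow_one])
    obtain ⟨g, hg⟩ := MulAction.exists_smul_eq G Q P
    have hmem : MulAut.conj g (a y) ∈ Subgroup.zpowers y := by
      have h : MulAut.conj g • a y ∈ ((g • Q : Sylow 19 G) : Subgroup G) := by
        rw [Sylow.coe_subgroup_smul]
        exact Subgroup.smul_mem_pointwise_smul _ _ _
          (by simp only [Q, Sylow.coe_ofCard]; exact Subgroup.mem_zpowers (a y))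
      rw [hg] at h
      simpa [P] using h
    obtain ⟨r, hr⟩ := (Submonoid.mem_powers_iff _ _).1 (mem_powers_iff_mem_zpowers.2 hmem)
    have hr1 : 1 ≤ r % 19 := by
      by_contra h
      have h0 : y ^ r = 1 := by
        rw [pow_congr y19 (b := 0) (by omega), pow_zero]
      rw [h0] at hr
      exact yne ((map_eq_one_iff a a.injective).1
        ((map_eq_one_iff _ (MulAut.conj g).injective).1 hr.symm))
    obtain ⟨r0, hr0, i, -, hi⟩ := residues hr1 (Nat.mod_lt _ (by norm_num))
    let b : MulAut G := MulAut.conj (k ^ i)⁻¹ * MulAut.conj g * a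
    have hby : b y = y ^ r0 := by
      show MulAut.conj (k ^ i)⁻¹ (MulAut.conj g (a y)) = y ^ r0
      rw [← hr, pow_congr y19 (b := 12 ^ i * r0) (by omega), ← pow_conj_eq hk i r0,
        MulAut.conj_apply]
      group
    obtain ⟨j, hj⟩ : ∃ j : ℕ, b k = k * y ^ j := by
      have h1 : b k * y ^ r0 * (b k)⁻¹ = k * y ^ r0 * k⁻¹ := by
        have := congrArg b hk
        rw [map_mul, map_mul, map_inv, map_pow, hby] at this
        rw [this, ← pow_mul, ← conj_pow, hk, ← pow_mul, mul_comm]
      have hc : Commute (k⁻¹ * b k) (y ^ r0) := by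
        calc k⁻¹ * b k * y ^ r0 = k⁻¹ * (b k * y ^ r0 * (b k)⁻¹) * b k := by group
          _ = k⁻¹ * (k * y ^ r0 * k⁻¹) * b k := by rw [h1]
          _ = y ^ r0 * (k⁻¹ * b k) := by group
      have hc' : Commute (k⁻¹ * b k) y := by
        obtain ⟨m, hm⟩ : ∃ m, r0 * m % 19 = 1 := by
          fin_cases hr0
          · exact ⟨1, rfl⟩
          · exact ⟨10, rfl⟩
          · exact ⟨5, rfl⟩
        have := hc.pow_right m
        rwa [← pow_mul, pow_congr y19 (b := 1) (by omega), pow_one] at this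
      obtain ⟨j, hj⟩ := hCy _ hc'
      exact ⟨j, by rw [← hj, mul_inv_cancel_left]⟩
    let c : MulAut G := MulAut.conj (y ^ (8 * j)) * b
    have hcy : c y = y ^ r0 := by
      show MulAut.conj (y ^ (8 * j)) (b y) = _
      rw [hby, MulAut.conj_apply, (Commute.pow_pow_self y (8 * j) r0).eq, mul_inv_cancel_right]
    have hck : c k = k := by
      show MulAut.conj (y ^ (8 * j)) (b k) = k
      have e : k⁻¹ * y ^ (8 * j) * k = y ^ (64 * j) := by
        rw [show k⁻¹ * y ^ (8 * j) * k = (k⁻¹ * y * k) ^ (8 * j) by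
          rw [show k⁻¹ * y * k = k⁻¹ * y * (k⁻¹)⁻¹ by rw [inv_inv], conj_pow, inv_inv],
          kinv, ← pow_mul]
        ring_nf
      rw [MulAut.conj_apply, hj]
      calc y ^ (8 * j) * (k * y ^ j) * (y ^ (8 * j))⁻¹
          = k * ((k⁻¹ * y ^ (8 * j) * k) * y ^ j) * (y ^ (8 * j))⁻¹ := by group
        _ = k := by
          rw [e, ← pow_add, pow_congr y19 (a := 64 * j + j) (b := 8 * j) (by omega),
            mul_inv_cancel_right]
    refine ⟨y ^ (8 * j) * ((k ^ i)⁻¹ * g), ?_⟩
    rw [map_mul, map_mul, mul_assoc, mul_assoc]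
    rcases fixed c r0 hr0 hcy hck with h | h
    · left; rw [← h]; simp only [c, b, mul_assoc]
    · right; rw [← h]; simp only [c, b, mul_assoc]
  have not_inner : sig ∉ Cfsg.Inn G := by
    rintro ⟨h, hh⟩
    have key : ∀ g, σ g = h * g * h⁻¹ := fun g => by rw [← hsig, ← hh]; rfl
    have hy' : Commute h y := by
      have := key y
      rw [hσy] at this
      exact mul_inv_eq_iff_eq_mul.1 this.symm
    obtain ⟨e, rfl⟩ := hCy h hy'
    have h8 : y ^ (8 * e) = y ^ e := by
      have h0 := key k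
      rw [hσk] at h0
      calc y ^ (8 * e) = k⁻¹ * y ^ e * k := by
            rw [pow_mul, ← kinv, show k⁻¹ * y * k = k⁻¹ * y * (k⁻¹)⁻¹ by rw [inv_inv], conj_pow,
              inv_inv]
        _ = k⁻¹ * (y ^ e * k * (y ^ e)⁻¹) * y ^ e := by group
        _ = y ^ e := by rw [← h0, inv_mul_cancel, one_mul]
    have he : y ^ e = 1 := by
      rw [show 8 * e = 7 * e + e by ring, pow_add, mul_eq_right] at h8
      have h77 : y ^ (7 * e * 11) = 1 := by rw [pow_mul, h8, one_pow]
      rwa [pow_congr y19 (b := e) (by omega)] at h77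
    have h1 := key z
    rw [he, hσz] at h1
    exact hne (by rw [h1]; group)
  haveI : Finite (MulAut G) :=
    Finite.of_injective (fun a : MulAut G => (a : G → G)) DFunLike.coe_injective
  rw [← Subgroup.index_eq_card]
  have h0 : (Cfsg.Inn G).index ≠ 0 := Subgroup.index_ne_zero_of_finite
  have h1 : (Cfsg.Inn G).index ≠ 1 := fun h =>
    not_inner (Subgroup.index_eq_one.1 h ▸ Subgroup.mem_top sig)
  have h2 : (Cfsg.Inn G).index ≤ 2 := by
    rw [Subgroup.index_eq_card]
    refine le_trans (Nat.card_le_card_of_surjective (fun t : Bool =>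
      (QuotientGroup.mk (if t then sig else 1) : MulAut G ⧸ Cfsg.Inn G)) ?_) (by simp)
    intro q
    obtain ⟨a, rfl⟩ := QuotientGroup.mk_surjective q
    obtain ⟨g, hg⟩ := exists_conj a
    have hN : (Cfsg.Inn G).Normal := inferInstance
    have mem : ∀ t : MulAut G, MulAut.conj g * a = t →
        (QuotientGroup.mk t : MulAut G ⧸ Cfsg.Inn G) = QuotientGroup.mk a := by
      intro t ht
      refine QuotientGroup.eq.2 ?_
      have e : t⁻¹ * a = a⁻¹ * (MulAut.conj g)⁻¹ * (a⁻¹)⁻¹ := by rw [← ht]; group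
      rw [e]
      exact hN.conj_mem _ (inv_mem ⟨g, rfl⟩) _
    rcases hg with h | h
    · exact ⟨false, by simpa using mem 1 h⟩
    · exact ⟨true, by simpa using mem sig h⟩
  omega

end CfsgLib.OnanOut
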