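import Cfsg.Agent.OnanOut.Search
import Cfsg.Agent.OnanOut.Rigid

/-!
From Boolean checks on a table to the order of the outer automorphism group.
-/

set_option autoImplicit false

namespace CfsgLib.OnanOut

open CfsgLib.CosetEnum

/-- the words of the certificate -/
structure Cert where
  yw : List ℕ
  kw : List ℕ
  zw : List ℕ
  zpw : List ℕ
  ck : List (List ℕ)
  ex : ℕ → List ℕ
  rels : List (List ℕ)
  fk : List (ℕ × List ℕ)
  specY : List (Level × Hint)
  specK : List (Level × Hint)

namespace Act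

variable {G : Type*} [Group G] (A : Act G)

/-- substitute words for the letters -/
def sub (f : ℕ → List ℕ) (R : List ℕ) : List ℕ := (R.map f).flatten

/-- a power of a word -/
def pw (n : ℕ) (w : List ℕ) : List ℕ := (List.replicate n w).flatten

theorem el_pw (n : ℕ) (w : List ℕ) : A.el (pw n w) = A.el w ^ n := by
  induction n with
  | zero => simpa [pw] using A.el_nil
  | succ n ih =>
    have e : pw (n + 1) w = w ++ pw n w := by simp [pw, List.replicate_succ]
    rw [e, A.el_append, ih, pow_succ]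

theorem small_pw {w : List ℕ} (hw : A.small w = true) (n : ℕ) : A.small (pw n w) = true :=
  A.small_flatten fun v hv => (List.eq_of_mem_replicate hv) ▸ hw

theorem small_sub {f : ℕ → List ℕ} (R : List ℕ) (hf : ∀ i ∈ R, A.small (f i) = true) :
    A.small (sub f R) = true :=
  A.small_flatten fun v hv => by
    obtain ⟨i, hi, rfl⟩ := List.mem_map.1 hv
    exact hf i hi

theorem el_sub (f : ℕ → List ℕ) (R : List ℕ) :
    A.el (sub f R) = (gword (fun i => (A.el (f i))⁻¹) R)⁻¹ := by
  induction R with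
  | nil => simp [sub, el_nil, gword_nil]
  | cons i R ih =>
    have e : sub f (i :: R) = f i ++ sub f R := rfl
    rw [e, A.el_append, ih, gword_cons, mul_inv_rev, inv_inv]

/-- the six words the generators are expressed in -/
def six (yv kv c : List ℕ) (i : ℕ) : List ℕ :=
  [yv, A.winv yv, kv, A.winv kv, c, A.winv c].getD i []

theorem small_six {yv kv c : List ℕ} (h1 : A.small yv = true) (h2 : A.small kv = true)
    (h3 : A.small c = true) (i : ℕ) : A.small (A.six yv kv c i) = true := by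
  match i with
  | 0 => exact h1
  | 1 => exact A.small_winv h1
  | 2 => exact h2
  | 3 => exact A.small_winv h2
  | 4 => exact h3
  | 5 => exact A.small_winv h3
  | i + 6 => rfl

theorem map_six (φ : G →* G) {yv kv c yv' kv' c' : List ℕ} (h1 : A.small yv = true)
    (h2 : A.small kv = true) (h3 : A.small c = true) (h1' : A.small yv' = true)
    (h2' : A.small kv' = true) (h3' : A.small c' = true) (e1 : φ (A.el yv) = A.el yv')
    (e2 : φ (A.el kv) = A.el kv') (e3 : φ (A.el c) = A.el c') (R : List ℕ) :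
    φ (A.el (sub (A.six yv kv c) R)) = A.el (sub (A.six yv' kv' c') R) := by
  rw [el_sub, el_sub, map_inv, gword_map φ]
  refine congrArg (·⁻¹) (gword_congr _ _ fun i _ => ?_)
  show φ (A.el (A.six yv kv c i))⁻¹ = (A.el (A.six yv' kv' c' i))⁻¹
  rw [map_inv]
  refine congrArg (·⁻¹) ?_
  match i with
  | 0 => exact e1
  | 1 =>
    show φ (A.el (A.winv yv)) = A.el (A.winv yv')
    rw [A.el_winv h1, A.el_winv h1', map_inv, e1]
  | 2 => exact e2
  | 3 =>
    show φ (A.el (A.winv kv)) = A.el (A.winv kv')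
    rw [A.el_winv h2, A.el_winv h2', map_inv, e2]
  | 4 => exact e3
  | 5 =>
    show φ (A.el (A.winv c)) = A.el (A.winv c')
    rw [A.el_winv h3, A.el_winv h3', map_inv, e3]
  | i + 6 => show φ (A.el []) = A.el []; rw [A.el_nil, map_one]

/-- the small words and identities of a certificate -/
noncomputable def factsOK (C : Cert) (bs : List ℕ) : Bool :=
  A.small C.yw && A.small C.kw && A.small C.zw && A.small C.zpw &&
    C.ck.all A.small &&
    A.eqOn bs (pw 19 C.yw) [] && !(A.eqOn bs C.yw []) &&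
    A.eqOn bs (A.winv C.kw ++ C.yw ++ C.kw) (pw 12 C.yw) &&
    A.eqOn bs (C.kw ++ C.zw) (C.zw ++ C.kw) && !(A.eqOn bs C.zw C.zpw) &&
    allBelow (fun x => A.eqOn bs (sub (A.six C.yw C.kw C.zw) (C.ex x)) [x]) A.D.L

/-- the images of the letters under the outer automorphism -/
def image (C : Cert) (x : ℕ) : List ℕ := sub (A.six C.yw C.kw C.zpw) (C.ex x)

/-- one relation holds for the images -/
noncomputable def relOK (C : Cert) (bs : List ℕ) (r : List ℕ) : Bool :=
  A.eqOn bs (sub (A.image C) r) []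

/-- the images respect inverses and fix the first two elements -/
noncomputable def homOK (C : Cert) (bs : List ℕ) : Bool :=
  allBelow (fun x => A.eqOn bs (A.image C (A.D.iv x)) (A.winv (A.image C x))) A.D.L &&
    A.eqOn bs (sub (A.image C) C.yw) C.yw && A.eqOn bs (sub (A.image C) C.kw) C.kw &&
    A.eqOn bs (sub (A.image C) C.zw) C.zpw

/-- a candidate image is excluded by the relation `a * a = 1` -/
noncomputable def candOK (C : Cert) (bs : List ℕ) (r0 : ℕ) (c : List ℕ) : Bool :=
  (Nat.beq r0 1 && (A.eqOn bs c C.zw || A.eqOn bs c C.zpw)) ||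
    !(A.eqOn bs (sub (A.six (pw r0 C.yw) C.kw c) (C.ex 2 ++ C.ex 2)) [])

/-- the centralisers are as listed -/
noncomputable def centYOK (C : Cert) (bs : List ℕ) : Bool :=
  Nat.beq (run A.D.T A.D.L C.yw 0) 0 &&
    A.searchOK C.yw bs ((List.range 19).map fun j => pw j C.yw) C.specY [0] []

/-- the centraliser of the second element is as listed, branch by branch -/
noncomputable def centKOK (C : Cert) (bs : List ℕ) (e : ℕ × List ℕ) : Bool :=
  A.small e.2 && Nat.beq (run A.D.T A.D.L e.2 0) e.1 && A.searchOK C.kw bs C.ck C.specK [0] e.2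

variable [Finite G]

omit [Finite G] in
theorem orb_nil_zero (hgen : ∀ a : Equiv.Perm (Fin A.D.n),
      a ∈ Subgroup.closure {a | ∃ x < A.D.L, A.ok.sigma x = a} → a ∈ A.pi.range) :
    A.orb [] ⟨0, A.ok.hn⟩ = Set.univ := by
  refine Set.eq_univ_of_forall fun i => ?_
  obtain ⟨a, ha, he⟩ := A.ok.transitive i
  obtain ⟨g, rfl⟩ := hgen a ha
  exact ⟨g, by rw [A.fixing_nil]; trivial, he⟩

theorem card_fixing_zero {m : ℕ} (hcard : Nat.card G = A.D.n * m) :
    Nat.card (A.fixing [0]) = m := by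
  have htop : A.orb [] ⟨0, A.ok.hn⟩ = Set.univ := A.orb_nil_zero fun a ha => by
    refine (Subgroup.closure_le _).2 ?_ ha
    rintro _ ⟨x, hx, rfl⟩
    exact ⟨A.gen x, A.pi_gen hx⟩
  have h := A.card_step [] ⟨0, A.ok.hn⟩
  rw [htop, Set.ncard_univ, Nat.card_fin, A.fixing_nil, Subgroup.card_top, hcard] at h
  exact Nat.eq_of_mul_eq_mul_left A.ok.hn h

theorem base_bot {spec : List (Level × Hint)} {m : ℕ} (hcard : Nat.card G = A.D.n * m)
    (hsize : size (spec.map Prod.fst) = m) (hm : 0 < m) (hc : A.chainOK [0] (spec.map Prod.fst)) :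
    A.fixing (lastPre spec [0]) = ⊥ ∧ ∀ b ∈ lastPre spec [0], b < A.D.n := by
  have hex := A.exact_of_card _ _ hc (by rw [A.card_fixing_zero hcard, hsize]) (hsize ▸ hm)
  constructor
  · have : ∀ (sp : List (Level × Hint)) (pre : List ℕ), A.exact pre (sp.map Prod.fst) →
        A.fixing (lastPre sp pre) = ⊥ := by
      intro sp
      induction sp with
      | nil => intro pre h; exact h
      | cons e r ih => intro pre h; exact ih _ h.2
    exact this spec [0] hex
  · have : ∀ (sp : List (Level × Hint)) (pre : List ℕ), A.chainOK pre (sp.map Prod.fst) →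
        (∀ b ∈ pre, b < A.D.n) → ∀ b ∈ lastPre sp pre, b < A.D.n := by
      intro sp
      induction sp with
      | nil => intro pre _ h; exact h
      | cons e r ih =>
        intro pre h hp
        exact ih _ h.2.2.2 fun b hb => by
          rcases List.mem_cons.1 hb with rfl | hb
          · exact h.1
          · exact hp b hb
    exact this spec [0] hc (fun b hb => by rw [List.mem_singleton.1 hb]; exact A.ok.hn)

theorem centraliser_from_zero {hh : List ℕ} {spec : List (Level × Hint)} {L : List (List ℕ)}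
    {m : ℕ} (hcard : Nat.card G = A.D.n * m) (hsize : size (spec.map Prod.fst) = m) (hm : 0 < m)
    (hc : A.chainOK [0] (spec.map Prod.fst)) (hhs : A.small hh = true)
    (hh' : A.hintsOK hh spec) {x : G} (hx : Commute x (A.el hh)) {W : List ℕ}
    (hW : A.small W = true) (hW0 : A.pi x ⟨0, A.ok.hn⟩ = A.pi (A.el W) ⟨0, A.ok.hn⟩)
    (hok : A.searchOK hh (lastPre spec [0]) L spec [0] W = true) : ∃ V ∈ L, x = A.el V := by
  obtain ⟨hbot, hlt⟩ := A.base_bot hcard hsize hm hc
  refine A.search_sound hbot hlt hhs hx spec [0] W rfl hc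
    (A.exact_of_card _ _ hc (by rw [A.card_fixing_zero hcard, hsize]) (hsize ▸ hm)) hh' hW hok ?_
  intro i hi
  rw [show i = ⟨0, A.ok.hn⟩ from Fin.ext (List.mem_singleton.1 hi)]
  exact hW0

/-- The outer automorphism group has order two, given the checks. -/
theorem card_out_of_checks [IsSimpleGroup G] (C : Cert) {m : ℕ} (hm : 0 < m)
    (hcard : Nat.card G = A.D.n * m) (hfac : (Nat.card G).factorization 19 = 1)
    (hL : A.D.L = 8)
    (hext : ∀ φ ψ : G →* G, (∀ x < A.D.L, φ (A.gen x) = ψ (A.gen x)) → φ = ψ)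
    (hlift : ∀ v : ℕ → G, (∀ x < A.D.L, v (A.D.iv x) = (v x)⁻¹) →
      (∀ w ∈ C.rels, gword v w = 1) → ∃ φ : G →* G, ∀ x < A.D.L, φ (A.gen x) = v x)
    (haa : A.el [2, 2] = 1) (hex : ∀ x < A.D.L, ∀ i ∈ C.ex x, i < 6)
    (hsY : size (C.specY.map Prod.fst) = m) (hsK : size (C.specK.map Prod.fst) = m)
    (hcY : A.chainOK [0] (C.specY.map Prod.fst)) (hcK : A.chainOK [0] (C.specK.map Prod.fst))
    (hhY : A.hintsOK C.yw C.specY) (hhK : A.hintsOK C.kw C.specK)
    (hfixY : ∀ i < A.D.n, run A.D.T A.D.L C.yw i = i → i = 0)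
    (hfixK : ∀ i < A.D.n, run A.D.T A.D.L C.kw i = i → i ∈ C.fk.map Prod.fst)
    (hk0 : run A.D.T A.D.L C.kw 0 = 0)
    (hfacts : A.factsOK C (lastPre C.specK [0]) = true)
    (hrels : ∀ r ∈ C.rels, A.relOK C (lastPre C.specK [0]) r = true)
    (hhom : A.homOK C (lastPre C.specK [0]) = true)
    (hcand : [1, 2, 4].all (fun r0 => C.ck.all (A.candOK C (lastPre C.specK [0]) r0)) = true)
    (hcy : A.centYOK C (lastPre C.specY [0]) = true)
    (hck : C.fk.all (A.centKOK C (lastPre C.specK [0])) = true) :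
    Nat.card (Cfsg.Out G) = 2 := by
  obtain ⟨hbot, hlt⟩ := A.base_bot hcard hsK hm hcK
  simp only [factsOK, Bool.and_eq_true, Bool.not_eq_true', Model.allBelow_iff] at hfacts
  obtain ⟨⟨⟨⟨⟨⟨⟨⟨⟨⟨hys, hks⟩, hzs⟩, hzps⟩, hcks⟩, hy19⟩, hy1⟩, hkc⟩, hkz⟩, hzne⟩, hexp⟩ :=
    hfacts
  simp only [homOK, Bool.and_eq_true, Model.allBelow_iff] at hhom
  obtain ⟨⟨⟨hinv, hiy⟩, hik⟩, hiz⟩ := hhom
  have eq_iff := fun {v w : List ℕ} (hv : A.small v = true) (hw : A.small w = true) =>
    A.eqOn_iff hbot hlt hv hw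
  have snil : A.small [] = true := rfl
  have simg : ∀ x, A.small (A.image C x) = true := fun x =>
    A.small_sub _ fun i _ => A.small_six hys hks hzps i
  have gen_eq : ∀ x < A.D.L, A.el (sub (A.six C.yw C.kw C.zw) (C.ex x)) = A.el [x] := fun x hx =>
    (eq_iff (A.small_sub _ fun i _ => A.small_six hys hks hzs i)
      (A.small_iff.2 fun y hy => by rw [List.mem_singleton.1 hy]; exact hx)).1 (hexp x hx)
  -- the outer endomorphism
  obtain ⟨σ, hσ⟩ := hlift (fun x => (A.el (A.image C x))⁻¹)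
    (fun x hx => by
      show (A.el (A.image C (A.D.iv x)))⁻¹ = ((A.el (A.image C x))⁻¹)⁻¹
      rw [(eq_iff (simg _) (A.small_winv (simg x))).1 (hinv x hx), A.el_winv (simg x)])
    (fun w hw => by
      have h := (eq_iff (A.small_sub _ fun i _ => simg i) snil).1 (hrels w hw)
      rwa [A.el_sub, A.el_nil, inv_eq_one] at h)
  have σ_el : ∀ w, A.small w = true → σ (A.el w) = A.el (sub (A.image C) w) := fun w hw => by
    rw [el, map_inv, gword_map σ, A.el_sub]
    exact congrArg (·⁻¹) (gword_congr _ _ fun x hx => hσ x (A.small_iff.1 hw x hx))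
  have s_img : ∀ w, A.small (sub (A.image C) w) = true := fun w => A.small_sub _ fun i _ => simg i
  -- order and centralisers
  have hordy : orderOf (A.el C.yw) = 19 := by
    refine orderOf_eq_prime (hp := ⟨by decide⟩) ?_ fun h => ?_
    · have h := (eq_iff (A.small_pw hys 19) snil).1 hy19
      rwa [A.el_pw, A.el_nil] at h
    · have h' : A.eqOn (lastPre C.specK [0]) C.yw [] = true :=
        (eq_iff hys snil).2 (by rw [h, A.el_nil])
      rw [hy1] at h'
      exact Bool.noConfusion h'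
  have hkconj : A.el C.kw * A.el C.yw * (A.el C.kw)⁻¹ = A.el C.yw ^ 12 := by
    have h := (eq_iff (A.small_append (A.small_append (A.small_winv hks) hys) hks)
      (A.small_pw hys 12)).1 hkc
    rwa [A.el_append, A.el_append, A.el_winv hks, A.el_pw, ← mul_assoc] at h
  have hCy : ∀ x, Commute x (A.el C.yw) → ∃ j : ℕ, x = A.el C.yw ^ j := by
    intro x hx
    simp only [centYOK, Bool.and_eq_true] at hcy
    have hy0 : A.pi (A.el C.yw) ⟨0, A.ok.hn⟩ = ⟨0, A.ok.hn⟩ :=
      Fin.ext (by rw [A.pi_el hys]; exact Nat.eq_of_beq_eq_true hcy.1)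
    have hx0 : A.pi x ⟨0, A.ok.hn⟩ = ⟨0, A.ok.hn⟩ := by
      refine Fin.ext (hfixY _ (Fin.isLt _) ?_)
      rw [← A.pi_el hys, ← Equiv.Perm.mul_apply, ← map_mul, ← hx.eq, map_mul,
        Equiv.Perm.mul_apply, hy0]
    obtain ⟨V, hV, rfl⟩ := A.centraliser_from_zero (W := []) hcard hsY hm hcY hys hhY hx rfl
      (by rw [A.el_nil, map_one, Equiv.Perm.one_apply, hx0]) hcy.2
    obtain ⟨j, -, rfl⟩ := List.mem_map.1 hV
    exact ⟨j, A.el_pw j _⟩
  have hCk : ∀ x, Commute x (A.el C.kw) → ∃ c ∈ C.ck, x = A.el c := by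
    intro x hx
    have hk' : A.pi (A.el C.kw) ⟨0, A.ok.hn⟩ = ⟨0, A.ok.hn⟩ :=
      Fin.ext (by rw [A.pi_el hks]; exact hk0)
    have hmem : ((A.pi x ⟨0, A.ok.hn⟩ : Fin A.D.n) : ℕ) ∈ C.fk.map Prod.fst := by
      refine hfixK _ (Fin.isLt _) ?_
      rw [← A.pi_el hks, ← Equiv.Perm.mul_apply, ← map_mul, ← hx.eq, map_mul,
        Equiv.Perm.mul_apply, hk']
    obtain ⟨e, he, heq⟩ := List.mem_map.1 hmem
    have h := List.all_eq_true.1 hck e he
    simp only [centKOK, Bool.and_eq_true] at h
    exact A.centraliser_from_zero (W := e.2) hcard hsK hm hcK hks hhK hx h.1.1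
      (Fin.ext (by rw [A.pi_el h.1.1, ← heq]; exact (Nat.eq_of_beq_eq_true h.1.2).symm)) h.2
  refine card_out_eq_two hordy hfac hkconj hCy (z := A.el C.zw) (z' := A.el C.zpw) ?_ ?_ ?_ σ
    (by rw [σ_el _ hys]; exact (eq_iff (s_img _) hys).1 hiy)
    (by rw [σ_el _ hks]; exact (eq_iff (s_img _) hks).1 hik)
    (by rw [σ_el _ hzs]; exact (eq_iff (s_img _) hzps).1 hiz) ?_
  · have h := (eq_iff (A.small_append hks hzs) (A.small_append hzs hks)).1 hkz
    rw [A.el_append, A.el_append] at h
    exact h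
  · intro φ ψ h1 h2 h3
    refine hext φ ψ fun x hx => inv_injective ?_
    rw [← map_inv, ← map_inv, ← A.el_single, ← gen_eq x hx, el_sub, map_inv, map_inv,
      gword_map φ, gword_map ψ]
    refine congrArg (·⁻¹) (gword_congr _ _ fun i hi => ?_)
    show φ (A.el (A.six C.yw C.kw C.zw i))⁻¹ = ψ (A.el (A.six C.yw C.kw C.zw i))⁻¹
    rw [map_inv, map_inv]
    refine congrArg (·⁻¹) ?_
    have hi6 := hex x hx i hi
    interval_cases i
    · exact h1
    · show φ (A.el (A.winv C.yw)) = ψ (A.el (A.winv C.yw))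
      rw [A.el_winv hys, map_inv, map_inv, h1]
    · exact h2
    · show φ (A.el (A.winv C.kw)) = ψ (A.el (A.winv C.kw))
      rw [A.el_winv hks, map_inv, map_inv, h2]
    · exact h3
    · show φ (A.el (A.winv C.zw)) = ψ (A.el (A.winv C.zw))
      rw [A.el_winv hzs, map_inv, map_inv, h3]
  · intro φ r0 hr hy' hk' hz'
    obtain ⟨c, hc, hφz⟩ := hCk _ hz'
    have hcs := List.all_eq_true.1 hcks c hc
    have h := List.all_eq_true.1 (List.all_eq_true.1 hcand r0 hr) c hc
    simp only [candOK, Bool.or_eq_true, Bool.and_eq_true, Bool.not_eq_true', Nat.beq_eq] at h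
    rcases h with ⟨h1, h2⟩ | h
    · refine ⟨h1, h2.imp (fun e => ?_) (fun e => ?_)⟩
      · rw [hφz]; exact (eq_iff hcs hzs).1 e
      · rw [hφz]; exact (eq_iff hcs hzps).1 e
    · have hs := A.small_sub (C.ex 2 ++ C.ex 2) fun i _ =>
        A.small_six (A.small_pw hys r0) hks hcs i
      have e1 := A.map_six φ hys hks hzs (A.small_pw hys r0) hks hcs
        (by rw [hy', A.el_pw]) hk' hφz (C.ex 2 ++ C.ex 2)
      have e2 : A.el (sub (A.six C.yw C.kw C.zw) (C.ex 2 ++ C.ex 2)) = 1 := by
        rw [show sub (A.six C.yw C.kw C.zw) (C.ex 2 ++ C.ex 2) =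
          sub (A.six C.yw C.kw C.zw) (C.ex 2) ++ sub (A.six C.yw C.kw C.zw) (C.ex 2) by
            simp [sub]]
        have h2L : 2 < A.D.L := by omega
        rw [A.el_append, gen_eq 2 h2L, ← A.el_append]
        exact haa
      rw [e2, map_one] at e1
      rw [(eq_iff hs snil).2 (e1.symm.trans A.el_nil.symm)] at h
      exact Bool.noConfusion h
  · intro h
    rw [(eq_iff hzs hzps).2 h] at hzne
    exact Bool.noConfusion hzne

end Act

end CfsgLib.OnanOut
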