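import Cfsg.Agent.OnanOut.Checks.Fixk0
import Cfsg.Agent.OnanOut.Checks.Fixk1
import Cfsg.Agent.OnanOut.Checks.Fixk2
import Cfsg.Agent.OnanOut.Checks.Fixk3
import Cfsg.Agent.OnanOut.Checks.Fixk4
import Cfsg.Agent.OnanOut.Checks.Fixk5
import Cfsg.Agent.OnanOut.Checks.Fixk6
import Cfsg.Agent.OnanOut.Checks.Fixk7
import Cfsg.Agent.OnanOut.Checks.Fixy0
import Cfsg.Agent.OnanOut.Checks.Fixy1
import Cfsg.Agent.OnanOut.Checks.Chain
import Cfsg.Agent.OnanOut.Checks.SearchY0
import Cfsg.Agent.OnanOut.Checks.SearchY1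
import Cfsg.Agent.OnanOut.Checks.SearchY2
import Cfsg.Agent.OnanOut.Checks.SearchK
import Cfsg.Agent.OnanOut.Checks.Facts
import Cfsg.Agent.OnanOut.Checks.Rels0
import Cfsg.Agent.OnanOut.Checks.Rels1
import Cfsg.Agent.OnanOut.Checks.Rels2
import Cfsg.Agent.OnanOut.Checks.Cand

/-! Generated: the checks put together -/

set_option autoImplicit false
set_option maxRecDepth 100000
set_option Elab.async false

namespace CfsgLib.OnanOut

theorem fixk_all : ∀ i < 122760, fixTest Data.kw Data.fixPts i = true :=
  upTo_step (upTo_step (upTo_step (upTo_step (upTo_step (upTo_step (upTo_step (upTo_step (upTo_step (upTo_step (upTo_step (upTo_step (upTo_step (upTo_step (upTo_step (upTo_step (upTo_step (upTo_step (upTo_step (upTo_step (upTo_step (upTo_step (upTo_step (upTo_step (upTo_step (upTo_step (upTo_step (upTo_step (upTo_step (upTo_step (upTo_step (upTo_step (upTo_step (upTo_step (upTo_step (upTo_step (upTo_step (upTo_step (upTo_step (upTo_step (upTo_step (upTo_step (upTo_step (upTo_step (upTo_step (upTo_step (upTo_step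 (upTo_step (upTo_step (upTo_step (upTo_step (upTo_step (upTo_step (upTo_step (upTo_step (upTo_step (upTo_step (upTo_step (upTo_step (upTo_step (upTo_step (upTo_step (fun i h => absurd h (Nat.not_lt_zero i)) fixk0 (b := 2000) rfl) fixk2000 (b := 4000) rfl) fixk4000 (b := 6000) rfl) fixk6000 (b := 8000) rfl) fixk8000 (b := 10000) rfl) fixk10000 (b := 12000) rfl) fixk12000 (b := 14000) rfl) fixk14000 (b := 16000) rfl) fixk16000 (b := 18000) rfl) fixk18000 (b := 20000) rfl) fixk20000 (b := 22000) rfl) fixk22000 (b := 24000) rfl) fixk24000 (b := 26000) rfl) fixk26000 (b := 28000) rfl) fixk28000 (b := 30000) rfl) fixk30000 (b := 32000) rfl) fixk32000 (b := 34000) rfl) fixk34000 (b := 36000) rfl) fixk36000 (b := 38000) rfl) fixk38000 (b := 40000) rfl) fixk40000 (b := 42000) rfl) fixk42000 (b := 44000) rfl) fixk44000 (b := 46000) rfl) fixk46000 (b := 48000) rfl) fixk48000 (b := 50000) rfl) fixk50000 (b := 52000) rfl) fixk52000 (b := 54000) rfl) fixk54000 (b := 56000) rfl) fixk56000 (b := 58000) rfl) fixk58000 (b :=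 60000) rfl) fixk60000 (b := 62000) rfl) fixk62000 (b := 64000) rfl) fixk64000 (b := 66000) rfl) fixk66000 (b := 68000) rfl) fixk68000 (b := 70000) rfl) fixk70000 (b := 72000) rfl) fixk72000 (b := 74000) rfl) fixk74000 (b := 76000) rfl) fixk76000 (b := 78000) rfl) fixk78000 (b := 80000) rfl) fixk80000 (b := 82000) rfl) fixk82000 (b := 84000) rfl) fixk84000 (b := 86000) rfl) fixk86000 (b := 88000) rfl) fixk88000 (b := 90000) rfl) fixk90000 (b := 92000) rfl) fixk92000 (b := 94000) rfl) fixk94000 (b := 96000) rfl) fixk96000 (b := 98000) rfl) fixk98000 (b := 100000) rfl) fixk100000 (b := 102000) rfl) fixk102000 (b := 104000) rfl) fixk104000 (b := 106000) rfl) fixk106000 (b := 108000) rfl) fixk108000 (b := 110000) rfl) fixk110000 (b := 112000) rfl) fixk112000 (b := 114000) rfl) fixk114000 (b := 116000) rfl) fixk116000 (b := 118000) rfl) fixk118000 (b := 120000) rfl) fixk120000 (b := 122000) rfl) fixk122000 (b := 122760) rfl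

theorem fixy_all : ∀ i < 122760, fixTest Data.yw [0] i = true :=
  upTo_step (upTo_step (upTo_step (upTo_step (upTo_step (upTo_step (upTo_step (upTo_step (upTo_step (upTo_step (upTo_step (upTo_step (upTo_step (upTo_step (upTo_step (upTo_step (upTo_step (upTo_step (upTo_step (upTo_step (upTo_step (upTo_step (upTo_step (upTo_step (upTo_step (upTo_step (upTo_step (upTo_step (upTo_step (upTo_step (upTo_step (upTo_step (upTo_step (upTo_step (upTo_step (upTo_step (upTo_step (upTo_step (upTo_step (upTo_step (upTo_step (upTo_step (upTo_step (upTo_step (upTo_step (upTo_step (upTo_step (upTo_step (upTo_step (upTo_step (upTo_step (upTo_step (upTo_step (upTo_step (upTo_step (upTo_step (upTo_step (upTo_step (upTo_step (upTo_step (upTo_step (upTo_step (fun i h => absurd h (Nat.not_lt_zero i)) fixy0 (b := 2000) rfl) fixy2000 (b := 4000) rfl) fixy4000 (b := 6000) rfl) fixy6000 (b := 8000) rfl) fixy8000 (b := 10000) rfl) fixy10000 (b := 12000) rfl) fixy12000 (b := 14000) rfl) fixy14000 (b := 16000) rfl) fixy16000 (b := 18000)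 rfl) fixy18000 (b := 20000) rfl) fixy20000 (b := 22000) rfl) fixy22000 (b := 24000) rfl) fixy24000 (b := 26000) rfl) fixy26000 (b := 28000) rfl) fixy28000 (b := 30000) rfl) fixy30000 (b := 32000) rfl) fixy32000 (b := 34000) rfl) fixy34000 (b := 36000) rfl) fixy36000 (b := 38000) rfl) fixy38000 (b := 40000) rfl) fixy40000 (b := 42000) rfl) fixy42000 (b := 44000) rfl) fixy44000 (b := 46000) rfl) fixy46000 (b := 48000) rfl) fixy48000 (b := 50000) rfl) fixy50000 (b := 52000) rfl) fixy52000 (b := 54000) rfl) fixy54000 (b := 56000) rfl) fixy56000 (b := 58000) rfl) fixy58000 (b := 60000) rfl) fixy60000 (b := 62000) rfl) fixy62000 (b := 64000) rfl) fixy64000 (b := 66000) rfl) fixy66000 (b := 68000) rfl) fixy68000 (b := 70000) rfl) fixy70000 (b := 72000) rfl) fixy72000 (b := 74000) rfl) fixy74000 (b := 76000) rfl) fixy76000 (b := 78000) rfl) fixy78000 (b := 80000) rfl) fixy80000 (b := 82000) rfl) fixy82000 (b := 84000) rfl) fixy84000 (b := 86000) rfl) fixy86000 (b := 88000) rfl) fixy88000 (b := 90000) rfl) fixy90000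 (b := 92000) rfl) fixy92000 (b := 94000) rfl) fixy94000 (b := 96000) rfl) fixy96000 (b := 98000) rfl) fixy98000 (b := 100000) rfl) fixy100000 (b := 102000) rfl) fixy102000 (b := 104000) rfl) fixy104000 (b := 106000) rfl) fixy106000 (b := 108000) rfl) fixy108000 (b := 110000) rfl) fixy110000 (b := 112000) rfl) fixy112000 (b := 114000) rfl) fixy114000 (b := 116000) rfl) fixy116000 (b := 118000) rfl) fixy118000 (b := 120000) rfl) fixy120000 (b := 122000) rfl) fixy122000 (b := 122760) rfl

theorem all_lvK1 : (mkLevel 667 Data.lvK1T).tr.all (onA.entryOK [0] 667) = true :=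
  mkLevel_tr_all _ _ _ (by
    intro p hp
    simp only [Data.lvK1T, List.mem_cons, List.not_mem_nil, or_false] at hp
    rcases hp with rfl | rfl | rfl | rfl | rfl | rfl | rfl | rfl | rfl | rfl | rfl | rfl | rfl
    · exact e_lvK10
    · exact e_lvK11
    · exact e_lvK12
    · exact e_lvK13
    · exact e_lvK14
    · exact e_lvK15
    · exact e_lvK16
    · exact e_lvK17
    · exact e_lvK18
    · exact e_lvK19
    · exact e_lvK110
    · exact e_lvK111
    · exact e_lvK112)

theorem all_lvK2 : (mkLevel 2463 Data.lvK2T).tr.all (onA.entryOK [667, 0] 2463) = true :=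
  mkLevel_tr_all _ _ _ (by
    intro p hp
    simp only [Data.lvK2T, List.mem_cons, List.not_mem_nil, or_false] at hp
    subst hp; exact e_lvK20)

theorem all_lvK3 : (mkLevel 1 Data.lvK3T).tr.all (onA.entryOK [2463, 667, 0] 1) = true :=
  mkLevel_tr_all _ _ _ (by
    intro p hp
    simp only [Data.lvK3T, List.mem_cons, List.not_mem_nil, or_false] at hp
    subst hp; exact e_lvK30)

theorem all_lvY1 : (mkLevel 878 Data.lvY1T).tr.all (onA.entryOK [0] 878) = true :=
  mkLevel_tr_all _ _ _ (by
    intro p hp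
    simp only [Data.lvY1T, List.mem_cons, List.not_mem_nil, or_false] at hp
    rcases hp with rfl | rfl | rfl | rfl | rfl | rfl | rfl | rfl | rfl | rfl | rfl | rfl
    · exact e_lvY10
    · exact e_lvY11
    · exact e_lvY12
    · exact e_lvY13
    · exact e_lvY14
    · exact e_lvY15
    · exact e_lvY16
    · exact e_lvY17
    · exact e_lvY18
    · exact e_lvY19
    · exact e_lvY110
    · exact e_lvY111)

theorem all_lvY2 : (mkLevel 1975 Data.lvY2T).tr.all (onA.entryOK [878, 0] 1975) = true :=
  mkLevel_tr_all _ _ _ (by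
    intro p hp
    simp only [Data.lvY2T, List.mem_cons, List.not_mem_nil, or_false] at hp
    rcases hp with rfl | rfl
    · exact e_lvY20
    · exact e_lvY21)

theorem searchY_all : (mkLevel 878 Data.lvY1T).tr.all stepY = true :=
  mkLevel_tr_all _ _ _ (by
    intro p hp
    simp only [Data.lvY1T, List.mem_cons, List.not_mem_nil, or_false] at hp
    rcases hp with rfl | rfl | rfl | rfl | rfl | rfl | rfl | rfl | rfl | rfl | rfl | rfl
    · exact sy0
    · exact sy1
    · exact sy2
    · exact sy3
    · exact sy4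
    · exact sy5
    · exact sy6
    · exact sy7
    · exact sy8
    · exact sy9
    · exact sy10
    · exact sy11)

theorem hom_ok : onA.homOK cert bsK = true := by
  unfold Act.homOK
  rw [hom_inv, hom_y, hom_k, hom_z]
  rfl

end CfsgLib.OnanOut
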