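import Cfsg.Agent.OnanOut.Checked

/-!
`Out(O'N)` has order two.
-/

set_option autoImplicit false
set_option maxRecDepth 100000

namespace CfsgLib.OnanOut

open CfsgLib.CosetEnum

theorem fix_mem {w F : List ℕ} (h : ∀ i < 122760, fixTest w F i = true) :
    ∀ i < onA.D.n, run onA.D.T onA.D.L w i = i → i ∈ F := by
  intro i hi e
  have := h i hi
  rw [fixTest, e, Nat.beq_refl] at this
  simpa using this

theorem haa : onA.el [2, 2] = 1 := by
  rw [Act.el, gword_cons, gword_cons, gword_nil, mul_one, inv_eq_one]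
  exact CosetEnum.ON.gen_sq (x := 2) le_rfl (by norm_num)

theorem fk_all : cert.fk.all (onA.centKOK cert bsK) = true := by
  rw [List.all_eq_true]
  intro e he
  obtain ⟨i, hi, rfl⟩ := List.getElem_of_mem he
  rw [← List.getD_eq_getElem _ (0, []) hi]
  have h9 : i < 9 := hi
  interval_cases i
  exacts [sk0, sk1, sk2, sk3, sk4, sk5, sk6, sk7, sk8]

theorem rels_all : ∀ r ∈ cert.rels, onA.relOK cert bsK r = true := by
  intro r hr
  obtain ⟨i, hi, rfl⟩ := List.getElem_of_mem hr
  rw [← List.getD_eq_getElem _ [] hi]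
  have h28 : i < 28 := hi
  interval_cases i
  exacts [rel0, rel1, rel2, rel3, rel4, rel5, rel6, rel7, rel8, rel9, rel10, rel11, rel12, rel13,
    rel14, rel15, rel16, rel17, rel18, rel19, rel20, rel21, rel22, rel23, rel24, rel25, rel26, rel27]

theorem cand_all : [1, 2, 4].all (fun r0 => cert.ck.all (onA.candOK cert bsK r0)) = true := by
  have key : ∀ r0, ((Data.ck.drop 0).take 18).all (onA.candOK cert bsK r0) = true →
      ((Data.ck.drop 18).take 18).all (onA.candOK cert bsK r0) = true →
      ((Data.ck.drop 36).take 18).all (onA.candOK cert bsK r0) = true →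
      ((Data.ck.drop 54).take 18).all (onA.candOK cert bsK r0) = true →
      cert.ck.all (onA.candOK cert bsK r0) = true := by
    intro r0 a b c d
    show Data.ck.all _ = true
    have e : Data.ck = (Data.ck.drop 0).take 18 ++ (Data.ck.drop 18).take 18 ++
        (Data.ck.drop 36).take 18 ++ (Data.ck.drop 54).take 18 := by decide
    rw [e, List.all_append, List.all_append, List.all_append, a, b, c, d]
    rfl
  simp only [List.all_cons, List.all_nil, Bool.and_true, Bool.and_eq_true]
  exact ⟨key 1 cand1_0 cand1_18 cand1_36 cand1_54, key 2 cand2_0 cand2_18 cand2_36 cand2_54,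
    key 4 cand4_0 cand4_18 cand4_36 cand4_54⟩

theorem lift_hom (v : ℕ → Cfsg.Spor.ON) (hv : ∀ x < onA.D.L, v (onA.D.iv x) = (v x)⁻¹)
    (hw : ∀ w ∈ cert.rels, gword v w = 1) :
    ∃ φ : Cfsg.Spor.ON →* Cfsg.Spor.ON, ∀ x < onA.D.L, φ (onA.gen x) = v x := by
  let v8 : ℕ → Cfsg.Spor.ON := letterVal 8 v
  have hiv : ∀ x, v8 (CosetEnum.ON.iv8 x) = (v8 x)⁻¹ := fun x => by
    refine letterVal_inv 8 v CosetEnum.ON.iv8 (fun y hy => ⟨?_, hv y hy⟩) (fun y hy => ?_) x
    · exact (CosetEnum.ON.perm_ok.iv_lt hy).1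
    · exact CosetEnum.ON.iv8_out y hy
  have hw8 : ∀ w ∈ CosetEnum.ON.Tab.relWords, gword v8 w = 1 := fun w hm => by
    have hsm : ∀ x ∈ w, x < 8 := by
      have := List.all_eq_true.1 (Bool.and_eq_true _ _ ▸ CosetEnum.ON.perm_ok.letters).2 w hm
      exact fun x hx => Nat.le_of_ble_eq_true (List.all_eq_true.1 this x hx)
    rw [gword_letterVal v hsm]
    exact hw w hm
  have hrel : ∀ r ∈ Cfsg.Spor.coxRelators Cfsg.Spor.ON.edges ∪ {r | r ∈ Cfsg.Spor.ON.extra},
      FreeGroup.lift (fun a => v (CosetEnum.ON.enc a)) r = 1 := by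
    intro r hr
    rw [CosetEnum.ON.rels_eq] at hr
    rw [map_eq_gword CosetEnum.ON.enc CosetEnum.ON.iv8
      (FreeGroup.lift fun a => v (CosetEnum.ON.enc a)) v8
      (fun a => by
        rw [FreeGroup.lift_apply_of]
        exact (letterVal_lt v (CosetEnum.ON.enc_lt a)).symm)
      (fun a => by
        rw [FreeGroup.lift_apply_of, hiv]
        exact congrArg (·⁻¹) (letterVal_lt v (CosetEnum.ON.enc_lt a)).symm) r]
    exact gword_of_wordsFrom v8 CosetEnum.ON.iv8 hiv CosetEnum.ON.relWords_to_list hw8 _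
      (List.mem_map_of_mem hr)
  refine ⟨PresentedGroup.toGroup hrel, fun x hx => ?_⟩
  have hx8 : x < 8 := hx
  show PresentedGroup.toGroup hrel (CosetEnum.ON.gen x) = v x
  interval_cases x
  any_goals exact PresentedGroup.toGroup.of hrel
  show PresentedGroup.toGroup hrel (PresentedGroup.of Cfsg.Spor.ON.Gen.g)⁻¹ = v 1
  rw [map_inv, PresentedGroup.toGroup.of hrel]
  exact (hv 0 (show (0 : ℕ) < 8 by norm_num)).symm

theorem card_out : Nat.card (Cfsg.Out Cfsg.Spor.ON) = 2 := by
  haveI := CosetEnum.ON.finite_on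
  haveI := CosetEnum.ON.simple
  refine onA.card_out_of_checks cert (m := 3753792) (by norm_num) ?_ ?_ rfl ?_ lift_hom haa ?_ ?_ ?_
    ?_ ?_ ?_ ?_ ?_ ?_ ?_ facts_ok rels_all hom_ok cand_all ?_ fk_all
  · rw [CosetEnum.ON.card_on]; rfl
  · rw [CosetEnum.ON.card_on, show (460815505920 : ℕ) = 19 * 24253447680 by norm_num,
      Nat.factorization_mul (by norm_num) (by norm_num), Finsupp.add_apply,
      Nat.Prime.factorization_self (by decide),
      Nat.factorization_eq_zero_of_not_dvd (by norm_num)]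
  · intro φ ψ h
    refine PresentedGroup.ext fun a => ?_
    have e : CosetEnum.ON.gen (CosetEnum.ON.enc a) = PresentedGroup.of a := by cases a <;> rfl
    rw [← e]
    exact h _ (CosetEnum.ON.enc_lt a)
  · intro x hx
    have hx8 : x < 8 := hx
    interval_cases x <;> decide
  · show (mkLevel 878 Data.lvY1T).tr.length * ((mkLevel 1975 Data.lvY2T).tr.length * 1) = 3753792
    rw [len_lvY1, len_lvY2]
  · show (mkLevel 667 Data.lvK1T).tr.length * ((mkLevel 2463 Data.lvK2T).tr.length *
      ((mkLevel 1 Data.lvK3T).tr.length * 1)) = 3753792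
    rw [len_lvK1, len_lvK2, len_lvK3]
  · exact ⟨show 878 < 122760 by norm_num, all_lvY1, inc_lvY1,
      show 1975 < 122760 by norm_num, all_lvY2, inc_lvY2, trivial⟩
  · exact ⟨show 667 < 122760 by norm_num, all_lvK1, inc_lvK1,
      show 2463 < 122760 by norm_num, all_lvK2, inc_lvK2,
      show 1 < 122760 by norm_num, all_lvK3, inc_lvK3, trivial⟩
  · exact trivial
  · exact ⟨fix_mem fixk_all, fix_mem fixk_all, trivial⟩
  · exact fun i hi e => List.mem_singleton.1 (fix_mem fixy_all i hi e)
  · exact fun i hi e => by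
      have h := fix_mem fixk_all i hi e
      rwa [show cert.fk.map Prod.fst = Data.fixPts by decide]
  · decide +kernel
  · simp only [Act.centYOK, Bool.and_eq_true]
    refine ⟨by decide +kernel, ?_⟩
    show onA.searchOK Data.yw bsY _ specY [0] [] = true
    unfold specY Act.searchOK
    exact searchY_all

end CfsgLib.OnanOut
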