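import Cfsg.Agent.OnanOut.Certify

/-! Words packed in octal. -/

set_option autoImplicit false

namespace CfsgLib.OnanOut

/-- octal digits, lowest first, below a leading one -/
noncomputable def unpack (fuel : ℕ) : ℕ → List ℕ :=
  Nat.rec (motive := fun _ => ℕ → List ℕ) (fun _ => [])
    (fun _ go z => bif Nat.ble z 1 then [] else (z % 8) :: force (z / 8) go) fuel

/-- a level from packed chunks -/
noncomputable def mkLevel (b : ℕ) (parts : List (List (ℕ × ℕ))) : Level :=
  ⟨b, (parts.map (List.map fun e => (e.1, unpack 64 e.2))).flatten⟩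

/-- unpack one chunk -/
noncomputable def unpackPart (p : List (ℕ × ℕ)) : List (ℕ × List ℕ) :=
  p.map fun e => (e.1, unpack 64 e.2)

theorem mkLevel_tr_all (b : ℕ) (parts : List (List (ℕ × ℕ))) (f : ℕ × List ℕ → Bool)
    (h : ∀ p ∈ parts, (unpackPart p).all f = true) : (mkLevel b parts).tr.all f = true := by
  rw [List.all_eq_true]
  intro e he
  obtain ⟨l, hl, hel⟩ := List.mem_flatten.1 he
  obtain ⟨p, hp, rfl⟩ := List.mem_map.1 hl
  exact List.all_eq_true.1 (h p hp) e hel

theorem upTo_step {f : ℕ → Bool} {a m b : ℕ} (h : ∀ i < a, f i = true)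
    (hc : CosetEnum.allFrom f a m = true) (e : a + m = b) : ∀ i < b, f i = true := by
  subst e
  induction m with
  | zero => exact h
  | succ m ih =>
    rw [CosetEnum.allFrom, Bool.and_eq_true] at hc
    intro i hi
    rcases Nat.lt_succ_iff_lt_or_eq.1 (show i < a + m + 1 by omega) with h1 | h1
    · exact ih hc.2 i h1
    · rw [h1]; exact hc.1

end CfsgLib.OnanOut
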