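import Cfsg.Agent.OnanOut.Act

/-!
Backtracking over a stabiliser chain for the elements commuting with a given element.
-/

set_option autoImplicit false

namespace CfsgLib.OnanOut

open CfsgLib.CosetEnum

/-- how the image of a base point under a commuting element is restricted -/
inductive Hint where
  | any
  | fixed (pts : List ℕ)
  | forced (b d : ℕ)

/-- the word listed for a point -/
noncomputable def look (q : ℕ) : List (ℕ × List ℕ) → Option (List ℕ) :=
  List.rec (motive := fun _ => Option (List ℕ)) none
    (fun e _ ih => bif Nat.beq e.1 q then some e.2 else ih)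

theorem look_none {q : ℕ} : ∀ {l : List (ℕ × List ℕ)}, look q l = none → q ∉ l.map Prod.fst
  | [], _ => List.not_mem_nil
  | e :: l, h => by
    change (bif Nat.beq e.1 q then some e.2 else look q l) = none at h
    cases hb : Nat.beq e.1 q with
    | true => simp [hb] at h
    | false =>
      rw [hb] at h
      rw [List.map_cons, List.mem_cons, not_or]
      exact ⟨fun e' => by rw [e', Nat.beq_refl] at hb; exact Bool.noConfusion hb, look_none h⟩

theorem look_some {q : ℕ} {t : List ℕ} : ∀ {l : List (ℕ × List ℕ)}, look q l = some t → (q, t) ∈ l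
  | [], h => by simp [look] at h
  | e :: l, h => by
    change (bif Nat.beq e.1 q then some e.2 else look q l) = some t at h
    cases hb : Nat.beq e.1 q with
    | true =>
      rw [hb] at h
      obtain ⟨a, b⟩ := e
      have : a = q := Nat.eq_of_beq_eq_true hb
      subst this
      cases h
      exact List.mem_cons_self
    | false => rw [hb] at h; exact List.mem_cons_of_mem _ (look_some h)

namespace Act

variable {G : Type*} [Group G] (A : Act G)

/-- iterated walk -/
noncomputable def runPow (hh : List ℕ) (d : ℕ) : ℕ → ℕ :=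
  Nat.rec (motive := fun _ => ℕ → ℕ) (fun i => i)
    (fun _ go i => force (run A.D.T A.D.L hh i) go) d

theorem pi_el_pow {hh : List ℕ} (h : A.small hh = true) (d : ℕ) (i : Fin A.D.n) :
    ((A.pi (A.el hh ^ d) i : Fin A.D.n) : ℕ) = A.runPow hh d i := by
  induction d generalizing i with
  | zero => rw [pow_zero, map_one, Equiv.Perm.one_apply]; rfl
  | succ d ih =>
    rw [pow_succ, map_mul, Equiv.Perm.mul_apply, ih, A.pi_el h]
    show A.runPow hh d (run A.D.T A.D.L hh i) =
      force (run A.D.T A.D.L hh i) (A.runPow hh d)
    rw [force_eq]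

/-- go on from the listed word of a point -/
noncomputable def branch (go : List ℕ → Bool) (V : Level) (W : List ℕ) (q : ℕ) : Bool :=
  match look q V.tr with
  | none => true
  | some t => go (t ++ W)

/-- the backtrack -/
noncomputable def searchOK (hh : List ℕ) (bs : List ℕ) (L : List (List ℕ)) :
    List (Level × Hint) → List ℕ → List ℕ → Bool
  | [], _, W => !(A.eqOn bs (W ++ hh) (hh ++ W)) || L.any (fun V => A.small V && A.eqOn bs W V)
  | (V, .any) :: rest, pre, W =>
      V.tr.all fun e => searchOK hh bs L rest (V.base :: pre) (e.2 ++ W)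
  | (V, .fixed F) :: rest, pre, W =>
      Nat.beq (run A.D.T A.D.L hh V.base) V.base && F.all fun f =>
        force (run A.D.T A.D.L (A.winv W) f)
          (branch (searchOK hh bs L rest (V.base :: pre)) V W)
  | (V, .forced b d) :: rest, pre, W =>
      pre.contains b && Nat.beq (A.runPow hh d b) V.base &&
        force (run A.D.T A.D.L (A.winv W) (A.runPow hh d (run A.D.T A.D.L W b)))
          (branch (searchOK hh bs L rest (V.base :: pre)) V W)

/-- the lists given with a fixed-point hint are complete -/
def hintsOK (hh : List ℕ) : List (Level × Hint) → Prop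
  | [] => True
  | (_, .fixed F) :: rest =>
      (∀ i < A.D.n, run A.D.T A.D.L hh i = i → i ∈ F) ∧ hintsOK hh rest
  | _ :: rest => hintsOK hh rest

/-- the last base list -/
def lastPre : List (Level × Hint) → List ℕ → List ℕ
  | [], pre => pre
  | (V, _) :: rest, pre => lastPre rest (V.base :: pre)

theorem search_sound [Finite G] {hh bs : List ℕ} (hbot : A.fixing bs = ⊥)
    (hbs : ∀ b ∈ bs, b < A.D.n) (hhs : A.small hh = true) {L : List (List ℕ)} {x : G}
    (hx : Commute x (A.el hh)) :
    ∀ (spec : List (Level × Hint)) (pre W : List ℕ), lastPre spec pre = bs →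
      A.chainOK pre (spec.map Prod.fst) → A.exact pre (spec.map Prod.fst) → A.hintsOK hh spec →
      A.small W = true → A.searchOK hh bs L spec pre W = true →
      (∀ i : Fin A.D.n, (i : ℕ) ∈ pre → A.pi x i = A.pi (A.el W) i) →
      ∃ V ∈ L, x = A.el V := by
  intro spec
  induction spec with
  | nil =>
    intro pre W hl _ _ _ hW hok hpre
    change pre = bs at hl
    subst hl
    have hxW : x = A.el W := by
      have hm : (A.el W)⁻¹ * x ∈ A.fixing pre := fun i hi => by
        rw [map_mul, map_inv, Equiv.Perm.mul_apply, Equiv.Perm.inv_eq_iff_eq, hpre i hi]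
      rw [hbot, Subgroup.mem_bot] at hm
      exact (inv_mul_eq_one.1 hm).symm
    unfold searchOK at hok
    simp only [Bool.or_eq_true, Bool.not_eq_true', List.any_eq_true, Bool.and_eq_true] at hok
    rcases hok with h | ⟨V, hV, hVs, hVe⟩
    · rw [← Bool.not_eq_true,
        A.eqOn_iff hbot hbs (A.small_append hW hhs) (A.small_append hhs hW), A.el_append,
        A.el_append, ← hxW] at h
      exact absurd hx.eq.symm h
    · exact ⟨V, hV, hxW.trans ((A.eqOn_iff hbot hbs hW hVs).1 hVe)⟩
  | cons e rest ih =>
    intro pre W hl hc hex hh' hW hok hpre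
    obtain ⟨V, hint⟩ := e
    obtain ⟨hb, he, hi, hr⟩ := hc
    obtain ⟨horb, hexr⟩ := hex
    set p : Fin A.D.n := ⟨V.base, hb⟩ with hp
    set q : Fin A.D.n := A.pi ((A.el W)⁻¹ * x) p with hq
    have hfix : (A.el W)⁻¹ * x ∈ A.fixing pre := fun i hi => by
      rw [map_mul, map_inv, Equiv.Perm.mul_apply, Equiv.Perm.inv_eq_iff_eq, hpre i hi]
    have hqm : (q : ℕ) ∈ V.tr.map Prod.fst := by
      have h1 : q ∈ A.orb pre p := ⟨_, hfix, rfl⟩
      rw [horb hb] at h1
      exact h1
    have qeq : (q : ℕ) = run A.D.T A.D.L (A.winv W) (A.pi x p : Fin A.D.n) := by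
      rw [hq, map_mul, Equiv.Perm.mul_apply, ← A.el_winv hW, A.pi_el (A.small_winv hW)]
    have step : ∀ t, ((q : ℕ), t) ∈ V.tr →
        A.searchOK hh bs L rest (V.base :: pre) (t ++ W) = true → A.hintsOK hh rest →
        ∃ V ∈ L, x = A.el V := by
      intro t ht hok' hh''
      have h := List.all_eq_true.1 he _ ht
      simp only [entryOK, Bool.and_eq_true, List.all_eq_true, Nat.beq_eq] at h
      refine ih (V.base :: pre) (t ++ W) hl hr hexr hh'' (A.small_append h.1.1 hW) hok' ?_
      intro i hi'
      rw [A.el_append, map_mul, Equiv.Perm.mul_apply]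
      have e0 : A.pi ((A.el W)⁻¹ * x) i = A.pi (A.el t) i := by
        rcases List.mem_cons.1 hi' with hib | hip
        · have hip' : i = p := Fin.ext hib
          rw [hip']
          exact (Fin.ext (by rw [A.pi_el h.1.1]; exact h.1.2)).symm
        · rw [hfix i hip]
          exact (Fin.ext (by rw [A.pi_el h.1.1]; exact h.2 _ hip)).symm
      rw [← e0, map_mul, map_inv, Equiv.Perm.mul_apply, Equiv.Perm.coe_inv,
        Equiv.apply_symm_apply]
    have viaBranch : ∀ {go : List ℕ → Bool}, go = A.searchOK hh bs L rest (V.base :: pre) →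
        branch go V W q = true → A.hintsOK hh rest → ∃ V ∈ L, x = A.el V := by
      intro go hgo hbr hh''
      subst hgo
      unfold branch at hbr
      cases hlk : look (q : ℕ) V.tr with
      | none => exact absurd hqm (look_none hlk)
      | some t => rw [hlk] at hbr; exact step t (look_some hlk) hbr hh''
    cases hint with
    | any =>
      unfold searchOK at hok
      obtain ⟨⟨a, t⟩, hm, ha⟩ := List.mem_map.1 hqm
      change a = (q : ℕ) at ha
      subst ha
      exact step t hm (List.all_eq_true.1 hok _ hm) hh'
    | fixed F =>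
      unfold searchOK at hok
      rw [Bool.and_eq_true, List.all_eq_true] at hok
      obtain ⟨hf, hall⟩ := hok
      obtain ⟨hcomplete, hh''⟩ := hh'
      have hpf : A.pi (A.el hh) p = p := Fin.ext (by rw [A.pi_el hhs]; exact Nat.eq_of_beq_eq_true hf)
      have hxf : run A.D.T A.D.L hh (A.pi x p : Fin A.D.n) = (A.pi x p : Fin A.D.n) := by
        rw [← A.pi_el hhs, ← Equiv.Perm.mul_apply, ← map_mul, ← hx.eq, map_mul,
          Equiv.Perm.mul_apply, hpf]
      have := hall _ (hcomplete _ (A.pi x p).isLt hxf)
      rw [force_eq, ← qeq] at this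
      exact viaBranch rfl this hh''
    | forced b d =>
      unfold searchOK at hok
      simp only [force_eq, Bool.and_eq_true, List.contains_iff_mem] at hok
      obtain ⟨⟨hbm, hd⟩, hbr⟩ := hok
      by_cases hbn : b < A.D.n
      · have hb1 : A.pi (A.el hh ^ d) ⟨b, hbn⟩ = p := Fin.ext (by
          rw [A.pi_el_pow hhs]; exact Nat.eq_of_beq_eq_true hd)
        have e1 : ((A.pi x p : Fin A.D.n) : ℕ) = A.runPow hh d (run A.D.T A.D.L W b) := by
          rw [← hb1, ← Equiv.Perm.mul_apply, ← map_mul, (hx.pow_right d).eq, map_mul,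
            Equiv.Perm.mul_apply, A.pi_el_pow hhs, hpre ⟨b, hbn⟩ hbm, A.pi_el hW]
        rw [← e1, ← qeq] at hbr
        exact viaBranch rfl hbr hh'
      · exfalso
        have hmem : ∀ (pr : List ℕ) (sp : List (Level × Hint)), b ∈ pr → b ∈ lastPre sp pr := by
          intro pr sp
          induction sp generalizing pr with
          | nil => exact id
          | cons e' r' ih' => intro h'; exact ih' _ (List.mem_cons_of_mem _ h')
        exact hbn (hbs b (hl ▸ hmem _ _ hbm))

end Act

end CfsgLib.OnanOut
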