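import Cfsg.Agent.OnanOut.Data
import Cfsg.Agent.CosetEnum.ON.Simple

/-!
The certificate for the outer automorphisms of the O'Nan group.
-/

set_option autoImplicit false
set_option maxRecDepth 100000

namespace CfsgLib.OnanOut

open CfsgLib.CosetEnum

/-- the O'Nan group on 122760 points -/
noncomputable def onA : Act Cfsg.Spor.ON :=
  { D := CosetEnum.ON.Tab.perm, ok := CosetEnum.ON.perm_ok, gen := CosetEnum.ON.gen,
    pi := CosetEnum.ON.pi, inj := CosetEnum.ON.pi_injective,
    pi_gen := fun hx => CosetEnum.ON.pi_gen hx }

/-- chain and hints for the centraliser of the element of order 19 -/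
noncomputable def specY : List (Level × Hint) :=
  [(mkLevel 878 Data.lvY1T, .any), (mkLevel 1975 Data.lvY2T, .forced 878 1)]

/-- chain and hints for the centraliser of the element of order six -/
noncomputable def specK : List (Level × Hint) :=
  [(mkLevel 667 Data.lvK1T, .fixed Data.fixPts), (mkLevel 2463 Data.lvK2T, .fixed Data.fixPts),
    (mkLevel 1 Data.lvK3T, .any)]

/-- base of the second chain -/
def bsK : List ℕ := [1, 2463, 667, 0]

/-- base of the first chain -/
def bsY : List ℕ := [1975, 878, 0]

/-- the certificate -/
noncomputable def cert : Cert :=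
  { yw := Data.yw, kw := Data.kw, zw := Data.zw, zpw := Data.zpw, ck := Data.ck, ex := Data.ex,
    rels := CosetEnum.ON.Tab.relWords, fk := Data.fk, specY := specY, specK := specK }

/-- one first branch of the search in the centraliser of the element of order 19 -/
noncomputable def stepY (e : ℕ × List ℕ) : Bool :=
  onA.searchOK Data.yw bsY ((List.range 19).map fun j => Act.pw j Data.yw)
    [(mkLevel 1975 Data.lvY2T, .forced 878 1)] [878, 0] (e.2 ++ [])

/-- every fixed point of the walk is listed -/
noncomputable def fixTest (w F : List ℕ) (i : ℕ) : Bool :=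
  !(Nat.beq (run onA.D.T onA.D.L w i) i) || F.contains i

end CfsgLib.OnanOut
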